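import Mathlib

/-!
A Hall subgroup of an alternating group is normalised by an odd element of the same prime set.
-/

set_option autoImplicit false

namespace Cfsg.Agent.AltHall

open Equiv Equiv.Perm MulAction
open scoped Pointwise

variable {G : Type*} [Group G] {π : Set ℕ}

theorem perm_apply_inv {α : Type*} (g : Perm α) (x : α) : g (g⁻¹ x) = x := Equiv.apply_symm_apply g x

/-- All primes dividing the order lie in the set. -/
def PiOrder (π : Set ℕ) (H : Subgroup G) : Prop := ∀ p : ℕ, p.Prime → p ∣ Nat.card H → p ∈ π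

theorem piOrder_sup [Finite G] {M X : Subgroup G} (hM : PiOrder π M) (hX : PiOrder π X)
    (h : M ≤ Subgroup.normalizer (X : Set G)) : PiOrder π (M ⊔ X) := by
  intro p hp hd
  have h1 : M ⊔ X ≤ Subgroup.normalizer (X : Set G) := sup_le h Subgroup.le_normalizer
  have h2 : X.relIndex (M ⊔ X) ∣ Nat.card M := by
    have : (X.subgroupOf (M ⊔ X)).Normal := (Subgroup.normal_subgroupOf_iff_le_normalizer le_sup_right).2 h1
    have e := Subgroup.relIndex_sup_right (H := M.subgroupOf (M ⊔ X)) (K := X.subgroupOf (M ⊔ X))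
    rw [← Subgroup.subgroupOf_sup le_sup_left le_sup_right, Subgroup.subgroupOf_self, Subgroup.relIndex_top_right] at e
    have e' : Nat.card (M.subgroupOf (M ⊔ X)) = Nat.card M :=
      Nat.card_congr (Subgroup.subgroupOfEquivOfLe le_sup_left).toEquiv
    rw [← e']
    show (X.subgroupOf (M ⊔ X)).index ∣ _
    rw [e]
    exact Subgroup.relIndex_dvd_card _ _
  have h3 : Nat.card X * X.relIndex (M ⊔ X) = Nat.card ↥(M ⊔ X) := by
    rw [← Subgroup.relIndex_bot_left, Subgroup.relIndex_mul_relIndex _ _ _ bot_le le_sup_right,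
      Subgroup.relIndex_bot_left]
  rw [← h3] at hd
  rcases hp.dvd_mul.1 hd with hd | hd
  · exact hX p hp hd
  · exact hM p hp (hd.trans h2)

/-- A `p`-element of a group is conjugate into a subgroup of index prime to `p`. -/
theorem exists_conj_mem [Finite G] {p : ℕ} [Fact p.Prime] {M : Subgroup G} (hM : ¬ p ∣ M.index) {P : Subgroup G}
    (hP : IsPGroup p P) : ∃ g : G, ∀ x ∈ P, g * x * g⁻¹ ∈ M := by
  obtain ⟨T⟩ : Nonempty (Sylow p M) := inferInstance
  obtain ⟨Q, hQ⟩ := hP.exists_le_sylow
  have hT : IsPGroup p ((T : Subgroup M).map M.subtype) := T.2.map _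
  have hidx : ¬ p ∣ ((T : Subgroup M).map M.subtype).index := by
    rw [Subgroup.index_map, M.ker_subtype, sup_bot_eq, M.range_subtype, Nat.Prime.dvd_mul Fact.out]
    rintro (h | h)
    · exact T.not_dvd_index h
    · exact hM h
  let T' : Sylow p G := hT.toSylow hidx
  obtain ⟨g, hg⟩ := MulAction.exists_smul_eq G Q T'
  refine ⟨g, fun x hx => ?_⟩
  have h1 : g * x * g⁻¹ ∈ (T' : Subgroup G) := by
    rw [← hg]
    show g * x * g⁻¹ ∈ MulAut.conj g • (Q : Subgroup G)
    exact ⟨x, hQ hx, rfl⟩
  exact Subgroup.map_subtype_le (T : Subgroup M) h1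

variable {α : Type*} [Fintype α] [DecidableEq α]

/-- The data of a Hall subgroup of the alternating group. -/
structure HallAlt (π : Set ℕ) (M : Subgroup (Perm α)) : Prop where
  le : M ≤ alternatingGroup α
  pi : PiOrder π M
  hall : ∀ p : ℕ, p.Prime → p ∈ π → ¬ p ∣ M.relIndex (alternatingGroup α)

theorem HallAlt.exists_conj {M : Subgroup (Perm α)} (h : HallAlt π M) {p : ℕ} [Fact p.Prime] (hp : p ∈ π)
    {W : Subgroup (Perm α)} (hMW : M ≤ W) (hW : W ≤ alternatingGroup α) {P : Subgroup (Perm α)} (hPW : P ≤ W)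
    (hP : IsPGroup p P) : ∃ g ∈ W, ∀ x ∈ P, g * x * g⁻¹ ∈ M := by
  have hidx : ¬ p ∣ (M.subgroupOf W).index := fun hd =>
    h.hall p Fact.out hp (hd.trans ⟨W.relIndex (alternatingGroup α), (Subgroup.relIndex_mul_relIndex M W _ hMW hW).symm⟩)
  obtain ⟨g, hg⟩ := exists_conj_mem hidx (P := P.subgroupOf W) (hP.comap_of_injective _ (Subgroup.subtype_injective W))
  exact ⟨g, g.2, fun x hx => hg ⟨x, hPW hx⟩ hx⟩

/-- The conclusion: an odd element in a larger subgroup with the same primes. -/
def Ext (π : Set ℕ) (M : Subgroup (Perm α)) : Prop :=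
  ∃ P : Subgroup (Perm α), M ≤ P ∧ PiOrder π P ∧ ∃ x ∈ P, sign x = -1

section Partition

variable {β : Type*} [Fintype β] [DecidableEq β] (f : α → β)

/-- The stabiliser of a partition. -/
def partStab : Subgroup (Perm α) where
  carrier := {g | ∀ a b, f (g a) = f (g b) ↔ f a = f b}
  mul_mem' := fun {g h} hg hh a b => (hg _ _).trans (hh a b)
  one_mem' := fun _ _ => Iff.rfl
  inv_mem' := fun {g} hg a b => by
    have := hg (g⁻¹ a) (g⁻¹ b)
    simp only [perm_apply_inv] at this
    exact this.symm

/-- The part of a subgroup fixing one class. -/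
def classStab (M : Subgroup (Perm α)) (i : β) : Subgroup (Perm α) where
  carrier := {m | m ∈ M ∧ ∀ a, f (m a) = i ↔ f a = i}
  mul_mem' := fun {g h} hg hh => ⟨M.mul_mem hg.1 hh.1, fun a => (hg.2 _).trans (hh.2 a)⟩
  one_mem' := ⟨M.one_mem, fun _ => Iff.rfl⟩
  inv_mem' := fun {g} hg => ⟨M.inv_mem hg.1, fun a => by
    have := hg.2 (g⁻¹ a)
    simp only [perm_apply_inv] at this
    exact this.symm⟩

/-- Restricting to one class. -/
def classHom (M : Subgroup (Perm α)) (i : β) : ↥(classStab f M i) →* Perm α where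
  toFun m := Perm.ofSubtype ((m : Perm α).subtypePerm (p := fun a => f a = i) m.2.2)
  map_one' := by
    rw [← map_one (Perm.ofSubtype (p := fun a => f a = i))]
    exact congrArg _ (Equiv.ext fun a => Subtype.ext rfl)
  map_mul' m n := by
    rw [← map_mul (Perm.ofSubtype (p := fun a => f a = i))]
    exact congrArg _ (Equiv.ext fun a => Subtype.ext rfl)

omit [Fintype α] [DecidableEq α] [Fintype β] in
theorem classHom_of_mem [DecidableEq α] {M : Subgroup (Perm α)} {i : β} (m : classStab f M i) {a : α} (ha : f a = i) :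
    classHom f M i m a = (m : Perm α) a :=
  Perm.ofSubtype_apply_of_mem (p := fun a => f a = i) ((m : Perm α).subtypePerm m.2.2) ha

omit [Fintype α] [DecidableEq α] [Fintype β] in
theorem classHom_of_not_mem [DecidableEq α] {M : Subgroup (Perm α)} {i : β} (m : classStab f M i) {a : α}
    (ha : f a ≠ i) : classHom f M i m a = a :=
  Perm.ofSubtype_apply_of_not_mem (p := fun a => f a = i) ((m : Perm α).subtypePerm m.2.2) ha

theorem classHom_comm {M : Subgroup (Perm α)} {i j : β} (hij : i ≠ j) (m : classStab f M i) (n : classStab f M j) :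
    Commute (classHom f M i m) (classHom f M j n) := by
  refine Equiv.ext fun a => ?_
  simp only [Perm.mul_apply]
  by_cases hi : f a = i
  · rw [classHom_of_not_mem f n (fun e => hij (hi.symm.trans e)), classHom_of_mem f m hi,
      classHom_of_not_mem f n (fun e => hij (((m.2.2 a).2 hi).symm.trans e))]
  · rw [classHom_of_not_mem f m hi]
    by_cases hj : f a = j
    · rw [classHom_of_mem f n hj, classHom_of_not_mem f m (fun e => hij (e.symm.trans ((n.2.2 a).2 hj)))]
    · rw [classHom_of_not_mem f n hj, classHom_of_not_mem f m hi]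

/-- A partition with two classes of size at least two gives the conclusion. -/
theorem ext_of_partition {M : Subgroup (Perm α)} (h : HallAlt π M) (h2 : 2 ∈ π) (hM : M ≤ partStab f)
    {a b c d : α} (hab : a ≠ b) (hcd : c ≠ d) (hf₁ : f a = f b) (hf₂ : f c = f d) (hne : f a ≠ f c) :
    Ext π M := by
  have hcomm : Pairwise fun i j : β => ∀ (x : classStab f M i) (y : classStab f M j),
      Commute (classHom f M i x) (classHom f M j y) := fun i j hij x y => classHom_comm f hij x y
  set X := (MonoidHom.noncommPiCoprod (classHom f M) hcomm).range with hX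
  have hXi : X = ⨆ i, (classHom f M i).range := by rw [hX, MonoidHom.noncommPiCoprod_range]
  have hXpi : PiOrder π X := by
    intro p hp hd
    have := hd.trans (Subgroup.card_range_dvd (MonoidHom.noncommPiCoprod (classHom f M) hcomm))
    rw [Nat.card_pi] at this
    obtain ⟨i, -, hi⟩ := (hp.prime.dvd_finset_prod_iff _).1 this
    exact h.pi p hp (hi.trans (Subgroup.card_dvd_of_le fun x hx => hx.1))
  have hnorm : M ≤ Subgroup.normalizer (X : Set (Perm α)) := by
    have hconj : ∀ g ∈ M, ∀ x ∈ X, g * x * g⁻¹ ∈ X := by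
      intro g hg x hx
      have hle : X ≤ X.comap (MulAut.conj g).toMonoidHom := by
        conv_lhs => rw [hXi]
        refine iSup_le fun i => ?_
        rintro _ ⟨m, rfl⟩
        by_cases hi : ∃ a, f a = i
        swap
        · push Not at hi
          rw [Subgroup.mem_comap, show classHom f M i m = 1 from
            Equiv.ext fun a => classHom_of_not_mem f m (hi a), map_one]
          exact one_mem _
        obtain ⟨a₀, ha₀⟩ := hi
        have hiff : ∀ a, f (g a) = f (g a₀) ↔ f a = i := fun a => by rw [hM hg a a₀, ha₀]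
        have hmem : g * (m : Perm α) * g⁻¹ ∈ classStab f M (f (g a₀)) :=
          ⟨M.mul_mem (M.mul_mem hg m.2.1) (M.inv_mem hg), fun a => by
            simp only [Perm.mul_apply]
            rw [hiff, m.2.2]
            have := hiff (g⁻¹ a)
            simp only [perm_apply_inv] at this
            exact this.symm⟩
        rw [Subgroup.mem_comap]
        rw [show (MulAut.conj g).toMonoidHom (classHom f M i m) =
            classHom f M (f (g a₀)) ⟨_, hmem⟩ from Equiv.ext fun a => by
          show g (classHom f M i m (g⁻¹ a)) = _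
          by_cases ha : f a = f (g a₀)
          · rw [classHom_of_mem f _ ha, classHom_of_mem f m ((hiff _).1 (by rwa [perm_apply_inv]))]
            rfl
          · rw [classHom_of_not_mem f _ ha, classHom_of_not_mem f m (fun e => ha (by
              have := (hiff (g⁻¹ a)).2 e
              rwa [perm_apply_inv] at this)), perm_apply_inv]]
        rw [hXi]
        exact Subgroup.mem_iSup_of_mem (f (g a₀)) ⟨_, rfl⟩
      exact hle hx
    intro g hg
    rw [Subgroup.mem_normalizer_iff]
    refine fun x => ⟨hconj g hg x, fun hx => ?_⟩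
    have := hconj g⁻¹ (M.inv_mem hg) _ hx
    simpa [mul_assoc] using this
  have : Fact (Nat.Prime 2) := ⟨Nat.prime_two⟩
  set u := Equiv.swap a b * Equiv.swap c d with hu
  have hclass : ∀ x, f (u x) = f x := by
    intro x
    simp only [hu, Perm.mul_apply, Equiv.swap_apply_def]
    split_ifs <;> simp_all
  have huW : u ∈ partStab f ⊓ alternatingGroup α :=
    ⟨fun x y => by rw [hclass, hclass], by
      show Perm.sign u = 1
      rw [hu, map_mul, sign_swap hab, sign_swap hcd]; rfl⟩
  have hu2 : u ^ 2 = 1 := by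
    have hc : Commute (Equiv.swap a b) (Equiv.swap c d) := by
      refine Perm.Disjoint.commute fun x => ?_
      by_cases hx : x = a ∨ x = b
      · right
        refine swap_apply_of_ne_of_ne ?_ ?_ <;> rintro rfl <;> rcases hx with rfl | rfl <;> simp_all
      · left
        push Not at hx
        exact swap_apply_of_ne_of_ne hx.1 hx.2
    rw [hu, hc.mul_pow, sq, sq, swap_mul_self, swap_mul_self, one_mul]
  have hPu : IsPGroup 2 (Subgroup.zpowers u) := by
    refine IsPGroup.of_card (n := (orderOf u).factorization 2) ?_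
    rw [Nat.card_zpowers]
    have hd : orderOf u ∣ 2 := orderOf_dvd_of_pow_eq_one hu2
    rcases (Nat.dvd_prime Nat.prime_two).1 hd with e | e <;> rw [e] <;> simp [Nat.Prime.factorization_self Nat.prime_two]
  obtain ⟨y, hy, hconj⟩ := h.exists_conj h2 (le_inf hM h.le) inf_le_right
    (Subgroup.zpowers_le.2 huW) hPu
  have hk := hconj u (Subgroup.mem_zpowers u)
  set i := f (y a)
  have hiff : ∀ x, f (y x) = i ↔ f x = f a := fun x => hy.1 x a
  have hmem : y * u * y⁻¹ ∈ classStab f M i := ⟨hk, fun x => by
    simp only [Perm.mul_apply]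
    rw [hiff, hclass]
    have := hiff (y⁻¹ x)
    simp only [perm_apply_inv] at this
    exact this.symm⟩
  have hval : classHom f M i ⟨_, hmem⟩ = y * Equiv.swap a b * y⁻¹ := Equiv.ext fun x => by
    by_cases hx : f x = i
    · rw [classHom_of_mem f _ hx]
      have hxa : f (y⁻¹ x) = f a := (hiff _).1 (by rwa [perm_apply_inv])
      show y (u (y⁻¹ x)) = y (Equiv.swap a b (y⁻¹ x))
      congr 1
      show Equiv.swap a b (Equiv.swap c d (y⁻¹ x)) = _
      congr 1
      refine swap_apply_of_ne_of_ne ?_ ?_ <;> intro e <;> rw [e] at hxa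
      · exact hne hxa.symm
      · exact hne (hxa.symm.trans hf₂.symm)
    · rw [classHom_of_not_mem f _ hx]
      have hxa : f (y⁻¹ x) ≠ f a := fun e => hx (by
        have := (hiff (y⁻¹ x)).2 e
        rwa [perm_apply_inv] at this)
      show x = y (Equiv.swap a b (y⁻¹ x))
      rw [swap_apply_of_ne_of_ne (fun e => hxa (by rw [e])) (fun e => hxa (by rw [e, hf₁])), perm_apply_inv]
  refine ⟨M ⊔ X, le_sup_left, piOrder_sup h.pi hXpi hnorm, classHom f M i ⟨_, hmem⟩,
    (le_sup_right : X ≤ M ⊔ X) (hXi ▸ Subgroup.mem_iSup_of_mem i ⟨_, rfl⟩), ?_⟩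
  rw [hval, map_mul, map_mul, sign_swap hab, map_inv]
  simp

end Partition

end Cfsg.Agent.AltHall
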