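import Cfsg.Agent.AltHall.Basic

/-!
Every Hall subgroup of an alternating group of a prime set containing two is the even part of a larger one.
-/

set_option autoImplicit false

namespace Cfsg.Agent.AltHall

open Equiv Equiv.Perm MulAction
open scoped Pointwise

variable {α : Type*} [Fintype α] [DecidableEq α] {π : Set ℕ}

theorem viaEmbeddingHom_swap {k : ℕ} (e : Fin k ↪ α) (i j : Fin k) :
    viaEmbeddingHom e (Equiv.swap i j) = Equiv.swap (e i) (e j) := by
  refine Equiv.ext fun x => ?_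
  by_cases hx : x ∈ Set.range e
  · obtain ⟨y, rfl⟩ := hx
    rw [viaEmbeddingHom_apply, viaEmbedding_apply, ← e.injective.map_swap]
  · rw [viaEmbeddingHom_apply, viaEmbedding_apply_of_notMem _ _ _ hx, swap_apply_of_ne_of_ne] <;>
      rintro rfl <;> exact hx ⟨_, rfl⟩

/-- A subgroup containing all double transpositions of a four-set. -/
def Full (M : Subgroup (Perm α)) (s : Finset α) : Prop :=
  s.card = 4 ∧ ∀ a b c d, a ∈ s → b ∈ s → c ∈ s → d ∈ s → a ≠ b → a ≠ c → a ≠ d → b ≠ c → b ≠ d → c ≠ d →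
    Equiv.swap a b * Equiv.swap c d ∈ M

theorem three_of_embedding {M : Subgroup (Perm α)} {k : ℕ} (e : Fin k ↪ α) (σ : Perm (Fin k))
    (h : viaEmbeddingHom e σ ∈ M) (h3 : orderOf σ = 3 ∨ orderOf σ = 6) : 3 ∣ Nat.card M := by
  have e1 : orderOf (viaEmbeddingHom e σ) = orderOf σ :=
    orderOf_injective _ (viaEmbeddingHom_injective e) σ
  have e2 : orderOf (viaEmbeddingHom e σ) ∣ Nat.card M := by
    have := orderOf_dvd_natCard (⟨_, h⟩ : M)
    rwa [Subgroup.orderOf_mk] at this
  rw [e1] at e2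
  rcases h3 with h3 | h3 <;> rw [h3] at e2
  · exact e2
  · exact (by norm_num : 3 ∣ 6).trans e2

set_option maxRecDepth 8000 in
theorem three_dvd_of_full {M : Subgroup (Perm α)} {s t : Finset α} (hs : Full M s) (ht : Full M t)
    (hne : s ≠ t) (hmeet : (s ∩ t).Nonempty) : 3 ∣ Nat.card M := by
  obtain ⟨hs4, hs⟩ := hs
  obtain ⟨ht4, ht⟩ := ht
  have hlt : (s ∩ t).card < 4 := by
    by_contra h
    have h1 : s ∩ t = s := Finset.eq_of_subset_of_card_le Finset.inter_subset_left (by omega)
    have h2 : s ∩ t = t := Finset.eq_of_subset_of_card_le Finset.inter_subset_right (by omega)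
    exact hne (h1.symm.trans h2)
  have hpos := hmeet.card_pos
  have c1 := Finset.card_sdiff_add_card_inter s t
  have c2 := Finset.card_sdiff_add_card_inter t s
  rw [Finset.inter_comm t s] at c2
  obtain h | h | h : (s ∩ t).card = 1 ∨ (s ∩ t).card = 2 ∨ (s ∩ t).card = 3 := by omega
  · obtain ⟨a, hI⟩ := Finset.card_eq_one.1 h
    obtain ⟨b, c, d, hbc, hbd, hcd, hS⟩ := Finset.card_eq_three.1 (show (s \ t).card = 3 by omega)
    obtain ⟨e, f, g, hef, heg, hfg, hT⟩ := Finset.card_eq_three.1 (show (t \ s).card = 3 by omega)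
    simp only [Finset.ext_iff, Finset.mem_inter, Finset.mem_sdiff, Finset.mem_insert, Finset.mem_singleton] at hI hS hT
    have A := (hI a).2 rfl
    have B := (hS b).2 (Or.inl rfl)
    have C := (hS c).2 (Or.inr (Or.inl rfl))
    have D := (hS d).2 (Or.inr (Or.inr rfl))
    have E := (hT e).2 (Or.inl rfl)
    have F := (hT f).2 (Or.inr (Or.inl rfl))
    have G := (hT g).2 (Or.inr (Or.inr rfl))
    have ab := ne_of_mem_of_not_mem A.2 B.2
    have ac := ne_of_mem_of_not_mem A.2 C.2
    have ad := ne_of_mem_of_not_mem A.2 D.2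
    have ae := ne_of_mem_of_not_mem A.1 E.2
    have af := ne_of_mem_of_not_mem A.1 F.2
    have ag := ne_of_mem_of_not_mem A.1 G.2
    have be := ne_of_mem_of_not_mem B.1 E.2
    have bf := ne_of_mem_of_not_mem B.1 F.2
    have bg := ne_of_mem_of_not_mem B.1 G.2
    have ce := ne_of_mem_of_not_mem C.1 E.2
    have cf := ne_of_mem_of_not_mem C.1 F.2
    have cg := ne_of_mem_of_not_mem C.1 G.2
    have de := ne_of_mem_of_not_mem D.1 E.2
    have df := ne_of_mem_of_not_mem D.1 F.2
    have dg := ne_of_mem_of_not_mem D.1 G.2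
    let ι : Fin 7 ↪ α := ⟨![a, b, c, d, e, f, g], List.nodup_ofFn.1 (by simp [*])⟩
    refine three_of_embedding ι ((Equiv.swap 0 1 * Equiv.swap 2 3) * (Equiv.swap 0 4 * Equiv.swap 5 6)) ?_
      (Or.inr ?_)
    · simp only [map_mul, viaEmbeddingHom_swap]
      exact M.mul_mem (hs _ _ _ _ A.1 B.1 C.1 D.1 ab ac ad hbc hbd hcd)
        (ht _ _ _ _ A.2 E.1 F.1 G.1 ae af ag hef heg hfg)
    · rw [orderOf_eq_iff (by norm_num)]
      decide
  · obtain ⟨a, b, hab, hI⟩ := Finset.card_eq_two.1 h
    obtain ⟨c, d, hcd, hS⟩ := Finset.card_eq_two.1 (show (s \ t).card = 2 by omega)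
    obtain ⟨e, f, hef, hT⟩ := Finset.card_eq_two.1 (show (t \ s).card = 2 by omega)
    simp only [Finset.ext_iff, Finset.mem_inter, Finset.mem_sdiff, Finset.mem_insert, Finset.mem_singleton] at hI hS hT
    have A := (hI a).2 (Or.inl rfl)
    have B := (hI b).2 (Or.inr rfl)
    have C := (hS c).2 (Or.inl rfl)
    have D := (hS d).2 (Or.inr rfl)
    have E := (hT e).2 (Or.inl rfl)
    have F := (hT f).2 (Or.inr rfl)
    have ac := ne_of_mem_of_not_mem A.2 C.2
    have ad := ne_of_mem_of_not_mem A.2 D.2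
    have bc := ne_of_mem_of_not_mem B.2 C.2
    have bd := ne_of_mem_of_not_mem B.2 D.2
    have ae := ne_of_mem_of_not_mem A.1 E.2
    have af := ne_of_mem_of_not_mem A.1 F.2
    have be := ne_of_mem_of_not_mem B.1 E.2
    have bf := ne_of_mem_of_not_mem B.1 F.2
    have ce := ne_of_mem_of_not_mem C.1 E.2
    have cf := ne_of_mem_of_not_mem C.1 F.2
    have de := ne_of_mem_of_not_mem D.1 E.2
    have df := ne_of_mem_of_not_mem D.1 F.2
    let ι : Fin 6 ↪ α := ⟨![a, b, c, d, e, f], List.nodup_ofFn.1 (by simp [*])⟩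
    refine three_of_embedding ι ((Equiv.swap 0 2 * Equiv.swap 1 3) * (Equiv.swap 0 4 * Equiv.swap 1 5)) ?_
      (Or.inl ?_)
    · simp only [map_mul, viaEmbeddingHom_swap]
      exact M.mul_mem (hs _ _ _ _ A.1 C.1 B.1 D.1 ac hab ad bc.symm hcd bd)
        (ht _ _ _ _ A.2 E.1 B.2 F.1 ae hab af be.symm hef bf)
    · rw [orderOf_eq_iff (by norm_num)]
      decide
  · obtain ⟨a, b, c, hab, hac, hbc, hI⟩ := Finset.card_eq_three.1 h
    obtain ⟨d, hS⟩ := Finset.card_eq_one.1 (show (s \ t).card = 1 by omega)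
    obtain ⟨e, hT⟩ := Finset.card_eq_one.1 (show (t \ s).card = 1 by omega)
    simp only [Finset.ext_iff, Finset.mem_inter, Finset.mem_sdiff, Finset.mem_insert, Finset.mem_singleton] at hI hS hT
    have A := (hI a).2 (Or.inl rfl)
    have B := (hI b).2 (Or.inr (Or.inl rfl))
    have C := (hI c).2 (Or.inr (Or.inr rfl))
    have D := (hS d).2 rfl
    have E := (hT e).2 rfl
    have ad := ne_of_mem_of_not_mem A.2 D.2
    have bd := ne_of_mem_of_not_mem B.2 D.2
    have cd := ne_of_mem_of_not_mem C.2 D.2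
    have ae := ne_of_mem_of_not_mem A.1 E.2
    have be := ne_of_mem_of_not_mem B.1 E.2
    have ce := ne_of_mem_of_not_mem C.1 E.2
    have de := ne_of_mem_of_not_mem D.1 E.2
    let ι : Fin 5 ↪ α := ⟨![a, b, c, d, e], List.nodup_ofFn.1 (by simp [*])⟩
    refine three_of_embedding ι ((Equiv.swap 0 1 * Equiv.swap 2 3) * (Equiv.swap 0 1 * Equiv.swap 2 4)) ?_
      (Or.inl ?_)
    · simp only [map_mul, viaEmbeddingHom_swap]
      exact M.mul_mem (hs _ _ _ _ A.1 B.1 C.1 D.1 hab hac ad hbc bd cd)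
        (ht _ _ _ _ A.2 B.2 C.2 E.1 hab hac ae hbc be ce)
    · rw [orderOf_eq_iff (by norm_num)]
      decide

theorem not_primitive {M : Subgroup (Perm α)} (h : HallAlt π M) (h2 : 2 ∈ π) (h3 : 3 ∉ π)
    (hn : 5 ≤ Fintype.card α) (hM : IsPreprimitive M α) : False := by
  have : Fact (Nat.Prime 2) := ⟨Nat.prime_two⟩
  obtain ⟨e⟩ : Nonempty (Fin 4 ↪ α) := Function.Embedding.nonempty_of_card_le (by simp; omega)
  set u := viaEmbeddingHom e (Equiv.swap 0 1 * Equiv.swap 2 3) with hu
  set v := viaEmbeddingHom e (Equiv.swap 0 2 * Equiv.swap 1 3) with hv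
  let V : Subgroup (Perm α) :=
    (Subgroup.closure ({Equiv.swap 0 1 * Equiv.swap 2 3, Equiv.swap 0 2 * Equiv.swap 1 3} : Set (Perm (Fin 4)))).map
      (viaEmbeddingHom e)
  let K : Subgroup (Perm (Fin 4)) :=
    { carrier := {1, Equiv.swap 0 1 * Equiv.swap 2 3, Equiv.swap 0 2 * Equiv.swap 1 3, Equiv.swap 0 3 * Equiv.swap 1 2}
      one_mem' := Or.inl rfl
      mul_mem' := by
        intro a b ha hb
        simp only [Set.mem_insert_iff, Set.mem_singleton_iff] at ha hb ⊢
        rcases ha with rfl | rfl | rfl | rfl <;> rcases hb with rfl | rfl | rfl | rfl <;> decide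
      inv_mem' := by
        intro a ha
        simp only [Set.mem_insert_iff, Set.mem_singleton_iff] at ha ⊢
        rcases ha with rfl | rfl | rfl | rfl <;> decide }
  have hK : IsPGroup 2 K := by
    intro x
    refine ⟨1, Subtype.ext ?_⟩
    obtain ⟨x, hx⟩ := x
    rcases hx with rfl | rfl | rfl | rfl <;> simp <;> decide
  have hKA : K.map (viaEmbeddingHom e) ≤ alternatingGroup α := by
    rintro _ ⟨x, hx, rfl⟩
    show Perm.sign (viaEmbeddingHom e x) = 1
    rcases hx with rfl | rfl | rfl | rfl <;>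
      simp only [map_mul, viaEmbeddingHom_swap, map_one, ne_eq, EmbeddingLike.apply_eq_iff_eq] <;>
      rw [sign_swap (by simp), sign_swap (by simp)] <;> rfl
  obtain ⟨g, -, hg⟩ := h.exists_conj h2 h.le le_rfl hKA (hK.map _)
  set e' : Fin 4 ↪ α := e.trans g.toEmbedding
  set s : Finset α := Finset.univ.map e'
  have hsw : ∀ i j, g * Equiv.swap (e i) (e j) * g⁻¹ = Equiv.swap (e' i) (e' j) := fun i j =>
    (Equiv.swap_apply_apply g (e i) (e j)).symm
  have hbase : ∀ i j k l : Fin 4, i ≠ j → i ≠ k → i ≠ l → j ≠ k → j ≠ l → k ≠ l →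
      Equiv.swap i j * Equiv.swap k l ∈ K := by
    show ∀ i j k l : Fin 4, i ≠ j → i ≠ k → i ≠ l → j ≠ k → j ≠ l → k ≠ l →
      Equiv.swap i j * Equiv.swap k l = 1 ∨ Equiv.swap i j * Equiv.swap k l = Equiv.swap 0 1 * Equiv.swap 2 3 ∨
      Equiv.swap i j * Equiv.swap k l = Equiv.swap 0 2 * Equiv.swap 1 3 ∨
      Equiv.swap i j * Equiv.swap k l = Equiv.swap 0 3 * Equiv.swap 1 2
    decide
  have hs : Full M s := by
    refine ⟨by simp [s], fun a b c d ha hb hc hd hab hac had hbc hbd hcd => ?_⟩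
    simp only [s, Finset.mem_map, Finset.mem_univ, true_and] at ha hb hc hd
    obtain ⟨i, rfl⟩ := ha
    obtain ⟨j, rfl⟩ := hb
    obtain ⟨k, rfl⟩ := hc
    obtain ⟨l, rfl⟩ := hd
    have := hg _ ⟨_, hbase i j k l (fun h => hab (h ▸ rfl)) (fun h => hac (h ▸ rfl)) (fun h => had (h ▸ rfl))
      (fun h => hbc (h ▸ rfl)) (fun h => hbd (h ▸ rfl)) (fun h => hcd (h ▸ rfl)), rfl⟩
    rw [map_mul, viaEmbeddingHom_swap, viaEmbeddingHom_swap] at this
    rw [← hsw, ← hsw]
    simpa [mul_assoc] using this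
  have himg : ∀ m ∈ M, Full M (s.map (m : Perm α).toEmbedding) := by
    intro m hm
    refine ⟨by simp [hs.1], fun a b c d ha hb hc hd hab hac had hbc hbd hcd => ?_⟩
    simp only [Finset.mem_map] at ha hb hc hd
    obtain ⟨a, ha, rfl⟩ := ha
    obtain ⟨b, hb, rfl⟩ := hb
    obtain ⟨c, hc, rfl⟩ := hc
    obtain ⟨d, hd, rfl⟩ := hd
    have := M.mul_mem (M.mul_mem hm (hs.2 a b c d ha hb hc hd (fun h => hab (h ▸ rfl)) (fun h => hac (h ▸ rfl))
      (fun h => had (h ▸ rfl)) (fun h => hbc (h ▸ rfl)) (fun h => hbd (h ▸ rfl)) (fun h => hcd (h ▸ rfl)))) (M.inv_mem hm)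
    show Equiv.swap (m a) (m b) * Equiv.swap (m c) (m d) ∈ M
    rw [Equiv.swap_apply_apply, Equiv.swap_apply_apply]
    simpa [mul_assoc] using this
  have hblock : IsBlock M (s : Set α) := by
    rw [isBlock_iff_smul_eq_or_disjoint]
    intro m
    have e1 : m • (s : Set α) = ((s.map (m : Perm α).toEmbedding : Finset α) : Set α) := by
      ext x
      simp [Set.mem_smul_set, Subgroup.smul_def]
      constructor
      · rintro ⟨y, hy, rfl⟩
        simpa using hy
      · exact fun h => ⟨_, h, by simp⟩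
    rw [e1, Finset.coe_inj, Finset.disjoint_coe]
    by_contra hcon
    push Not at hcon
    obtain ⟨h1, h1'⟩ := hcon
    exact h3 (h.pi 3 Nat.prime_three (three_dvd_of_full (himg _ m.2) hs h1
      (Finset.not_disjoint_iff_nonempty_inter.1 h1')))
  rcases hM.isTrivialBlock_of_isBlock hblock with hb | hb
  · have h4 := hs.1
    have hle : s.card ≤ 1 := Finset.card_le_one.2 fun a ha b hb' => hb ha hb'
    omega
  · rw [Finset.coe_eq_univ] at hb
    have h4 := hs.1
    rw [hb, Finset.card_univ] at h4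
    omega

/-- The main statement. -/
theorem ext_of_hallAlt (n : ℕ) : ∀ {α : Type*} [Fintype α] [DecidableEq α] {M : Subgroup (Perm α)},
    Fintype.card α = n → 2 ≤ n → HallAlt π M → 2 ∈ π → Ext π M := by
  induction n using Nat.strong_induction_on with
  | _ n ih =>
  intro α _ _ M hn hn2 h h2
  have : Fact (Nat.Prime 2) := ⟨Nat.prime_two⟩
  obtain ⟨a₀, b₀, hab₀⟩ := Fintype.exists_pair_of_one_lt_card (α := α) (by omega)
  have hA2 : 2 * Nat.card ↥(alternatingGroup α) = Nat.card (Perm α) := by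
    haveI : Nontrivial α := ⟨a₀, b₀, hab₀⟩
    exact two_mul_nat_card_alternatingGroup
  have htop : M = alternatingGroup α → Ext π M := by
    intro e
    refine ⟨⊤, le_top, fun p hp hd => ?_, Equiv.swap a₀ b₀, Subgroup.mem_top _, sign_swap hab₀⟩
    rw [Subgroup.card_top, ← hA2, hp.dvd_mul] at hd
    rcases hd with hd | hd
    · rwa [(Nat.prime_dvd_prime_iff_eq hp Nat.prime_two).1 hd]
    · exact h.pi p hp (e ▸ hd)
  have hA3 : 3 ∈ π → IsPreprimitive M α → Ext π M := by
    intro h3 hprim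
    rcases Nat.lt_or_ge n 3 with hlt | hge
    · refine htop (le_antisymm h.le fun x hx => ?_)
      have hcard : Nat.card ↥(alternatingGroup α) = 1 := by
        have e2 : Nat.card (Perm α) = 2 := by
          rw [Nat.card_perm, Nat.card_eq_fintype_card, hn, show n = 2 by omega, Nat.factorial_two]
        omega
      have := (Subgroup.card_eq_one.1 hcard) ▸ hx
      rw [Subgroup.mem_bot.1 this]
      exact one_mem _
    · have : Fact (Nat.Prime 3) := ⟨Nat.prime_three⟩
      obtain ⟨a, b, c, hab, hac, hbc⟩ := Fintype.two_lt_card_iff.1 (show 2 < Fintype.card α by omega)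
      have hσ := Equiv.Perm.isThreeCycle_swap_mul_swap_same hab hac hbc
      obtain ⟨g, -, hg⟩ := h.exists_conj h3 h.le le_rfl
        (Subgroup.zpowers_le.2 hσ.mem_alternatingGroup)
        (IsPGroup.of_card (n := 1) (by rw [Nat.card_zpowers, hσ.orderOf, pow_one]))
      refine htop (le_antisymm h.le (alternatingGroup_le_of_isPreprimitive_of_isThreeCycle_mem hprim ?_
        (hg _ (Subgroup.mem_zpowers _))))
      show (g * _ * g⁻¹).cycleType = {3}
      rw [cycleType_conj]
      exact hσ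
  by_cases hsmall : n ≤ 4
  · by_cases h3 : 3 ∈ π
    · refine htop (le_antisymm h.le (Subgroup.relIndex_eq_one.1 ?_))
      refine Nat.eq_one_iff_not_exists_prime_dvd.2 fun p hp hd => h.hall p hp ?_ hd
      have h1 : p ∣ Nat.card (Perm α) := hA2 ▸ dvd_mul_of_dvd_right (hd.trans (Subgroup.relIndex_dvd_card _ _)) 2
      rw [Nat.card_perm, Nat.card_eq_fintype_card, hn, hp.dvd_factorial] at h1
      have hp4 : p ≤ 4 := by omega
      have hp0 := hp.two_le
      interval_cases p
      all_goals first | exact h2 | exact h3 | (exfalso; revert hp; norm_num) | omega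
    · have hM2 : IsPGroup 2 M := by
        refine IsPGroup.of_card (n := (Nat.card M).factorization 2) ?_
        refine Nat.eq_of_factorization_eq Nat.card_pos.ne' (pow_ne_zero _ two_ne_zero) fun p => ?_
        rw [Nat.prime_two.factorization_pow, Finsupp.single_apply]
        split_ifs with hp2
        · rw [hp2]
        by_cases hp : p.Prime
        swap
        · exact Nat.factorization_eq_zero_of_not_prime _ hp
        refine Nat.factorization_eq_zero_of_not_dvd fun hd => ?_
        have hπ := h.pi p hp hd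
        have h1 : p ∣ Nat.card (Perm α) := hd.trans (Subgroup.card_subgroup_dvd_card M)
        rw [Nat.card_perm, Nat.card_eq_fintype_card, hn, hp.dvd_factorial] at h1
        have hp4 : p ≤ 4 := by omega
        have hp0 := hp.two_le
        interval_cases p
        all_goals first | exact hp2 rfl | exact h3 hπ | (revert hp; norm_num) | omega
      obtain ⟨P, hP⟩ := hM2.exists_le_sylow
      have hP2 : ¬ 2 ∣ (P : Subgroup (Perm α)).index := P.not_dvd_index
      obtain ⟨g, hg⟩ := exists_conj_mem hP2 (P := Subgroup.zpowers (Equiv.swap a₀ b₀))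
        (IsPGroup.of_card (n := 1) (by rw [Nat.card_zpowers, orderOf_eq_prime (by rw [sq, swap_mul_self])
          (fun e => hab₀ (by simpa using congrArg (fun σ : Perm α => σ b₀) e)), pow_one]))
      refine ⟨P, hP, fun p hp hd => ?_, _, hg _ (Subgroup.mem_zpowers _), ?_⟩
      · obtain ⟨k, hk⟩ := IsPGroup.iff_card.1 P.2
        rw [hk] at hd
        rwa [(Nat.prime_dvd_prime_iff_eq hp Nat.prime_two).1 (hp.dvd_of_dvd_pow hd)]
      · rw [map_mul, map_mul, map_inv, sign_swap hab₀]
        simp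
  push Not at hsmall
  have hinv : ∀ B : Set α, B.Nontrivial → Bᶜ.Nontrivial → (∀ m ∈ M, ∀ a, m a ∈ B ↔ a ∈ B) → Ext π M := by
    intro B hB hB' hM
    classical
    obtain ⟨a, ha, b, hb, hab⟩ := hB
    obtain ⟨c, hc, d, hd, hcd⟩ := hB'
    simp only [Set.mem_compl_iff] at hc hd
    refine ext_of_partition (fun x => decide (x ∈ B)) h h2 (fun m hm x y => ?_) hab hcd (by simp [ha, hb])
      (by simp [hc, hd]) (by simp [ha, hc])
    simp only [hM m hm]
  by_cases htrans : IsPretransitive M α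
  · by_cases hprim : IsPreprimitive M α
    · by_cases h3 : 3 ∈ π
      · exact hA3 h3 hprim
      · exact (not_primitive h h2 h3 (by omega) hprim).elim
    obtain ⟨B, hB, hnt⟩ : ∃ B : Set α, IsBlock M B ∧ ¬ IsTrivialBlock B := by
      by_contra hcon
      push Not at hcon
      exact hprim { isTrivialBlock_of_isBlock := fun {B} hB => hcon B hB }
    rw [IsTrivialBlock, not_or, Set.not_subsingleton_iff] at hnt
    obtain ⟨⟨a, ha, b, hb, hab⟩, huniv⟩ := hnt
    classical
    choose g hg using fun x : α => MulAction.exists_smul_eq M a x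
    let f : α → Set α := fun x => g x • B
    have hmem : ∀ x, x ∈ f x := fun x => ⟨a, ha, hg x⟩
    have huniq : ∀ (m : M) x, x ∈ m • B → f x = m • B := fun m x hx => by
      by_contra hne
      exact Set.disjoint_left.1 (hB hne) (hmem x) hx
    obtain ⟨c, hc⟩ := (Set.ne_univ_iff_exists_notMem B).1 huniv
    have hfc : f a ≠ f c := fun e => by
      have e1 : f a = B := by rw [huniq 1 a (by rwa [one_smul]), one_smul]
      exact hc (e1 ▸ e.symm ▸ hmem c)
    refine ext_of_partition f h h2 (fun m hm x y => ?_) hab (c := c) (d := ((g c : M) : Perm α) (if ((g c : M) : Perm α) a = c then b else a)) ?_ ?_ ?_ hfc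
    · have key : ∀ z, f (m z) = (⟨m, hm⟩ : M) • f z := fun z => by
        show f (m z) = (⟨m, hm⟩ : M) • g z • B
        rw [smul_smul]
        refine huniq _ _ ⟨a, ha, ?_⟩
        show ((⟨m, hm⟩ : M) * g z) • a = _
        rw [mul_smul, hg]
        rfl
      rw [key, key]
      exact (MulAction.injective _).eq_iff
    · split_ifs with e
      · intro e'
        exact hab (((g c : M) : Perm α).injective (e.trans e'))
      · exact fun e' => e e'.symm
    · rw [huniq 1 b (by rwa [one_smul]), one_smul, huniq 1 a (by rwa [one_smul]), one_smul]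
    · symm
      refine huniq _ _ ?_
      split_ifs
      · exact ⟨b, hb, rfl⟩
      · exact ⟨a, ha, rfl⟩
  obtain ⟨x₀, y₀, hxy⟩ : ∃ x y : α, y ∉ MulAction.orbit M x := by
    by_contra hcon
    push Not at hcon
    exact htrans ⟨fun x y => hcon x y⟩
  classical
  set O := MulAction.orbit M x₀
  have hO : ∀ m ∈ M, ∀ a, m a ∈ O ↔ a ∈ O := fun m hm a => by
    show (⟨m, hm⟩ : M) • a ∈ O ↔ a ∈ O
    rw [← MulAction.orbit_eq_iff, MulAction.orbit_smul, MulAction.orbit_eq_iff]
  by_cases hbig : O.Nontrivial ∧ Oᶜ.Nontrivial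
  · exact hinv O hbig.1 hbig.2 hO
  obtain ⟨z, hz⟩ : ∃ z, ∀ m ∈ M, m z = z := by
    rw [not_and_or, Set.not_nontrivial_iff, Set.not_nontrivial_iff] at hbig
    rcases hbig with hs | hs
    · exact ⟨x₀, fun m hm => hs ((hO m hm x₀).2 (MulAction.mem_orbit_self x₀)) (MulAction.mem_orbit_self x₀)⟩
    · exact ⟨y₀, fun m hm => hs (fun e => hxy ((hO m hm y₀).1 e)) hxy⟩
  set p : α → Prop := fun x => x ≠ z
  set φ : Perm (Subtype p) →* Perm α := Perm.ofSubtype
  have hφ : Function.Injective φ := Perm.ofSubtype_injective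
  have hMr : M ≤ φ.range := by
    intro m hm
    have hp : ∀ x, p (m x) ↔ p x := fun x => by
      show m x ≠ z ↔ x ≠ z
      conv_lhs => rw [← hz m hm]
      exact m.injective.ne_iff
    exact ⟨m.subtypePerm hp, Perm.ofSubtype_subtypePerm hp (fun x hx => by
      rintro rfl; exact hx (hz m hm))⟩
  have hcard : Fintype.card (Subtype p) = n - 1 := by
    rw [Fintype.card_subtype_compl, Fintype.card_subtype_eq, hn]
  have hM' : HallAlt π (M.comap φ) := by
    refine ⟨fun x hx => ?_, fun q hq hd => ?_, fun q hq hqπ hd => ?_⟩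
    · show Perm.sign x = 1
      rw [← Perm.sign_ofSubtype]
      exact h.le hx
    · exact h.pi q hq (hd.trans (Subgroup.card_comap_dvd_of_injective M φ hφ))
    · refine h.hall q hq hqπ (hd.trans ?_)
      have e1 : (M.comap φ).relIndex (alternatingGroup (Subtype p)) =
          M.relIndex ((alternatingGroup (Subtype p)).map φ) := Subgroup.relIndex_comap M φ _
      rw [e1]
      refine Subgroup.relIndex_dvd_of_le_left _ le_rfl |>.trans ?_
      have hle : M ≤ (alternatingGroup (Subtype p)).map φ := fun m hm => by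
        obtain ⟨x, rfl⟩ := hMr hm
        refine ⟨x, ?_, rfl⟩
        show Perm.sign x = 1
        rw [← Perm.sign_ofSubtype]
        exact h.le hm
      have hle' : (alternatingGroup (Subtype p)).map φ ≤ alternatingGroup α := by
        rintro _ ⟨x, hx, rfl⟩
        show Perm.sign (Perm.ofSubtype x) = 1
        rw [Perm.sign_ofSubtype]
        exact hx
      exact ⟨_, (Subgroup.relIndex_mul_relIndex M _ _ hle hle').symm⟩
  obtain ⟨P, hMP, hP, x, hx, hsx⟩ := ih (n - 1) (by omega) hcard (by omega) hM' h2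
  refine ⟨P.map φ, fun m hm => ?_, fun q hq hd => hP q hq (by rwa [Subgroup.card_map_of_injective hφ] at hd),
    φ x, ⟨x, hx, rfl⟩, by rw [Perm.sign_ofSubtype, hsx]⟩
  obtain ⟨y, rfl⟩ := hMr hm
  exact ⟨y, hMP hm, rfl⟩

end Cfsg.Agent.AltHall
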